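import Cfsg.Agent.H56.CTwoAb.Core
import Cfsg.Agent.H2.ChiFour.CoverFive
import Cfsg.Agent.H66.OrderSixty
import Cfsg.Agent.Unitary.Order72
import Cfsg.Agent.Linear.Order
import Cfsg.Agent.Linear.Generation
import Cfsg.Agent.Linear.Mult.CentralQuot
import Cfsg.Agent.S2117

/-!
The small groups on the `C₂` list: `A₆`, groups of order 12 and 60, and central covers of `PSL₂(q)`.
-/

set_option autoImplicit false

namespace Cfsg.Agent.H56.CTwoAb

open Matrix

universe u

theorem nonAb_A6 : NonAb (alternatingGroup (Fin 6)) :=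
  nonAb_of_real (k := 2)
    (x := ⟨Equiv.swap 0 1 * Equiv.swap 1 2 * Equiv.swap 2 3 * Equiv.swap 4 5,
      Equiv.Perm.mem_alternatingGroup.2 (by decide)⟩)
    (g := ⟨Equiv.swap 0 2 * Equiv.swap 4 5, Equiv.Perm.mem_alternatingGroup.2 (by decide)⟩)
    (Subtype.ext (show _ = _ by decide +kernel))
    (fun h => absurd (congrArg Subtype.val h) (show _ ≠ _ by decide +kernel))
    (Subtype.ext (show _ = _ by decide +kernel))

theorem not_solvable_simple {G : Type*} [Group G] [IsSimpleGroup G]
    (hna : ¬ ∀ u v : G, u * v = v * u) : ¬ Group.IsSolvable G := by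
  intro h
  haveI := h
  exact hna fun u v => (IsSimpleGroup.comm_iff_isSolvable (G := G)).2 h u v

theorem card_ne_twelve {G : Type*} [Group G] [Finite G] [IsSimpleGroup G]
    (hna : ¬ ∀ u v : G, u * v = v * u) : Nat.card G ≠ 12 := fun h =>
  not_solvable_simple hna (Unitary.isSolvable_of_card_dvd_72 h (by norm_num))

theorem iso_alt_of_card_sixty {G : Type*} [Group G] [Finite G] [IsSimpleGroup G]
    (hG : Nat.card G = 60) : Nonempty (G ≃* alternatingGroup (Fin 5)) := by
  haveI : Fact (Nat.Prime 5) := ⟨by norm_num⟩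
  refine H66.iso_altFive hG fun h1 => ?_
  haveI : Subsingleton (Sylow 5 G) := (Nat.card_eq_one_iff_unique.1 h1).1
  obtain ⟨P⟩ : Nonempty (Sylow 5 G) := inferInstance
  have hP : Nat.card (P : Subgroup G) = 5 := by
    rw [show Nat.card (P : Subgroup G) = Nat.card P from rfl, P.card_eq_multiplicity, hG,
      show (60 : ℕ) = 5 ^ 1 * 12 from rfl, Nat.factorization_mul (by norm_num) (by norm_num),
      Finsupp.add_apply, Nat.Prime.factorization_pow (by norm_num),
      Nat.factorization_eq_zero_of_not_dvd (n := 12) (by norm_num)]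
    simp
  rcases (P.normal_of_subsingleton).eq_bot_or_eq_top with h | h <;> rw [h] at hP
  · rw [Subgroup.card_bot] at hP; omega
  · rw [Subgroup.card_top] at hP; omega

theorem card_psl_two_odd {F : Type*} [Field F] [Fintype F] (h : Fintype.card F % 2 = 1) :
    2 * Nat.card (Matrix.ProjectiveSpecialLinearGroup (Fin 2) F) =
      Fintype.card F * (Fintype.card F ^ 2 - 1) := by
  rw [← Agent.Linear.card_PSL_two_mul, Nat.gcd_eq_left (by omega)]

theorem card_psl_two_even {F : Type*} [Field F] [Fintype F] (h : Fintype.card F % 2 = 0) :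
    Nat.card (Matrix.ProjectiveSpecialLinearGroup (Fin 2) F) =
      Fintype.card F * (Fintype.card F ^ 2 - 1) := by
  have h1 := Agent.Linear.card_PSL_two_mul (F := F)
  have h2 : Nat.gcd 2 (Fintype.card F - 1) = 1 := by
    have hc : 0 < Fintype.card F := Fintype.card_pos
    rcases (Nat.dvd_prime Nat.prime_two).1 (Nat.gcd_dvd_left 2 (Fintype.card F - 1)) with e | e
    · exact e
    · have := e ▸ Nat.gcd_dvd_right 2 (Fintype.card F - 1)
      omega
  rwa [h2, one_mul] at h1

/-- A perfect central cover of `PSL₂(F)` is an image of `SL₂(F)`. -/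
theorem exists_cover_hom {K : Type u} [Group K] {F : Type} [Field F] [Fintype F]
    (h5 : 5 ≤ Fintype.card F) (h9 : Fintype.card F ≠ 9)
    (e : K ⧸ Subgroup.center K ≃* Matrix.ProjectiveSpecialLinearGroup (Fin 2) F)
    (hK : Group.IsPerfect K) :
    ∃ η : Matrix.SpecialLinearGroup (Fin 2) F →* K, Function.Surjective η := by
  let G := Matrix.SpecialLinearGroup (Fin 2) F
  have hG : Group.IsPerfect G := ⟨Agent.Linear.commutator_SL_eq_top_of_card
    (Or.inr (by rw [Nat.card_eq_fintype_card]; omega))⟩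
  have h1 : Cfsg.HasCyclicSchurMultiplier G 1 := Agent.S2117.result (by omega) h9
  let σ : K →* K ⧸ Subgroup.center K := QuotientGroup.mk' _
  let π : G →* K ⧸ Subgroup.center K := e.symm.toMonoidHom.comp (QuotientGroup.mk' _)
  have hπ : Function.Surjective π := e.symm.surjective.comp (QuotientGroup.mk'_surjective _)
  have hσ : σ.ker = Subgroup.center K := QuotientGroup.ker_mk' _
  let P : Subgroup (K × G) :=
    (σ.comp (MonoidHom.fst K G)).eqLocus (π.comp (MonoidHom.snd K G))
  let ρ : P →* G := (MonoidHom.snd K G).comp P.subtype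
  obtain ⟨s, hs⟩ := Agent.H74.Schur.exists_section hG h1 ρ
    (fun g => ⟨⟨((QuotientGroup.mk'_surjective _ (π g)).choose, g),
      (QuotientGroup.mk'_surjective _ (π g)).choose_spec⟩, rfl⟩)
    (fun a ha => by
      have hmem : σ a.1.1 = π a.1.2 := a.2
      have h2 : a.1.2 = 1 := ha
      rw [h2, map_one] at hmem
      have hc : a.1.1 ∈ Subgroup.center K := hσ ▸ hmem
      rw [Subgroup.mem_center_iff]
      intro b
      refine Subtype.ext (Prod.ext ?_ ?_)
      · exact Subgroup.mem_center_iff.1 hc b.1.1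
      · show b.1.2 * a.1.2 = a.1.2 * b.1.2
        rw [h2, one_mul, mul_one])
  let η : G →* K := ((MonoidHom.fst K G).comp P.subtype).comp s
  have hη : ∀ g, σ (η g) = π g := fun g => by
    have h2 : (s g : K × G).2 = g := DFunLike.congr_fun hs g
    exact (s g).2.trans (congrArg π h2)
  have key : ∀ a : K, ∃ g : G, ∃ z ∈ Subgroup.center K, a = η g * z := fun a => by
    obtain ⟨g, hg⟩ := hπ (σ a)
    refine ⟨g, (η g)⁻¹ * a, hσ ▸ ?_, (mul_inv_cancel_left _ _).symm⟩
    rw [MonoidHom.mem_ker, map_mul, map_inv, hη, hg, inv_mul_cancel]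
  have hcomm : commutator K ≤ η.range := by
    rw [commutator_def, Subgroup.commutator_le]
    intro a _ b _
    obtain ⟨g, z, hz, ha⟩ := key a
    obtain ⟨g', z', hz', hb⟩ := key b
    rw [ha, hb, commutatorElement_def, Agent.H74.Schur.commutatorElement_mul_central hz hz']
    exact mul_mem (mul_mem (mul_mem ⟨_, rfl⟩ ⟨_, rfl⟩) (inv_mem ⟨_, rfl⟩)) (inv_mem ⟨_, rfl⟩)
  exact ⟨η, fun a => hcomm (Agent.H74.Schur.isPerfect_iff.1 hK ▸ Subgroup.mem_top a)⟩

theorem center_eq_bot_of_even {K : Type u} [Group K] [Finite K] {F : Type} [Field F] [Fintype F]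
    (hev : Fintype.card F % 2 = 0) (h8 : 5 ≤ Fintype.card F)
    (e : K ⧸ Subgroup.center K ≃* Matrix.ProjectiveSpecialLinearGroup (Fin 2) F)
    (hK : Group.IsPerfect K) : Subgroup.center K = ⊥ := by
  obtain ⟨η, hη⟩ := exists_cover_hom h8 (by omega) e hK
  have h1 := Nat.card_le_card_of_surjective η hη
  rw [Agent.Linear.card_SL_two, ← card_psl_two_even hev, ← Nat.card_congr e.toEquiv,
    Subgroup.card_eq_card_quotient_mul_card_subgroup (Subgroup.center K)] at h1
  have hpos : 0 < Nat.card (K ⧸ Subgroup.center K) := Nat.card_pos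
  refine Subgroup.eq_bot_of_card_eq _ (le_antisymm ?_ Nat.card_pos)
  exact Nat.le_of_mul_le_mul_left (by rwa [mul_one]) hpos

theorem center_eq_bot_or_equiv_SL {K : Type u} [Group K] [Finite K]
    (e : K ⧸ Subgroup.center K ≃* alternatingGroup (Fin 5)) (hK : Group.IsPerfect K) :
    Subgroup.center K = ⊥ ∨ Nonempty (K ≃* Matrix.SpecialLinearGroup (Fin 2) (ZMod 5)) := by
  haveI : Fact (Nat.Prime 5) := ⟨by norm_num⟩
  obtain ⟨j⟩ := H2.ChiFour.psl_equiv_alt
  obtain ⟨η, hη⟩ := exists_cover_hom (F := ZMod 5) (by simp [ZMod.card]) (by simp [ZMod.card])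
    (e.trans j.symm) hK
  have hA : Nat.card (alternatingGroup (Fin 5)) = 60 := by
    rw [Nat.card_eq_fintype_card]; rfl
  have hKc : Nat.card K = 60 * Nat.card (Subgroup.center K) := by
    rw [Subgroup.card_eq_card_quotient_mul_card_subgroup (Subgroup.center K),
      Nat.card_congr e.toEquiv, hA]
  have h1 := Nat.card_le_card_of_surjective η hη
  rw [H66.card_SL25, hKc] at h1
  rcases Nat.lt_or_ge (Nat.card (Subgroup.center K)) 2 with h | h
  · exact Or.inl (Subgroup.eq_bot_of_card_eq _ (le_antisymm (by omega) Nat.card_pos))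
  · exact Or.inr ⟨(MulEquiv.ofBijective η
      ((Nat.bijective_iff_surjective_and_card η).2 ⟨hη, by rw [H66.card_SL25, hKc]; omega⟩)).symm⟩

end Cfsg.Agent.H56.CTwoAb
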