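import Mathlib.GroupTheory.Sylow
import Mathlib.GroupTheory.QuotientGroup.Basic

/-!
Elementary criteria for non-commutative Sylow 2-subgroups: a 2-element `x` with `x ^ 2 ≠ 1`
that is inverted by some element forces a non-commutative Sylow 2-subgroup.
-/

set_option autoImplicit false

namespace Cfsg.Agent.H56.CTwoAb

variable {G H : Type*} [Group G] [Group H]

/-- No Sylow 2-subgroup is commutative. -/
def NonAb (G : Type*) [Group G] : Prop :=
  ∀ P : Sylow 2 G, ¬ IsMulCommutative ↥(P : Subgroup G)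

theorem comm_of_sylow [Finite G] {P Q : Sylow 2 G} (hP : IsMulCommutative ↥(P : Subgroup G))
    {u v : G} (hu : u ∈ (Q : Subgroup G)) (hv : v ∈ (Q : Subgroup G)) : u * v = v * u := by
  haveI : Fact (Nat.Prime 2) := ⟨Nat.prime_two⟩
  obtain ⟨c, rfl⟩ := MulAction.exists_smul_eq G P Q
  rw [Sylow.coe_subgroup_smul, Subgroup.mem_pointwise_smul_iff_inv_smul_mem] at hu hv
  have h : (MulAut.conj c)⁻¹ • u * (MulAut.conj c)⁻¹ • v =
      (MulAut.conj c)⁻¹ • v * (MulAut.conj c)⁻¹ • u :=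
    congrArg Subtype.val (hP.is_comm.comm ⟨_, hu⟩ ⟨_, hv⟩)
  rw [← smul_mul', ← smul_mul'] at h
  exact smul_left_cancel _ h

theorem conj_pow_inv {x g : G} (hg : g * x * g⁻¹ = x⁻¹) :
    ∀ m : ℕ, Odd m → g ^ m * x * (g ^ m)⁻¹ = x⁻¹ := by
  have hinv : g * x⁻¹ * g⁻¹ = x := by
    have := congrArg (·⁻¹) hg
    simpa [mul_assoc] using this
  rintro m ⟨k, rfl⟩
  induction k with
  | zero => simpa using hg
  | succ k ih =>
    rw [show 2 * (k + 1) + 1 = (2 * k + 1) + 1 + 1 by omega, pow_succ', pow_succ']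
    calc g * (g * g ^ (2 * k + 1)) * x * (g * (g * g ^ (2 * k + 1)))⁻¹
        = g * (g * (g ^ (2 * k + 1) * x * (g ^ (2 * k + 1))⁻¹) * g⁻¹) * g⁻¹ := by group
      _ = x⁻¹ := by rw [ih, hinv, hg]

/-- A real 2-element of order at least 4 gives a non-commutative Sylow 2-subgroup. -/
theorem nonAb_of_real [Finite G] {x g : G} {k : ℕ} (hx : x ^ 2 ^ k = 1) (hx2 : x ^ 2 ≠ 1)
    (hg : g * x * g⁻¹ = x⁻¹) : NonAb G := by
  intro P hP
  haveI : Fact (Nat.Prime 2) := ⟨Nat.prime_two⟩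
  set m := orderOf g / 2 ^ (orderOf g).factorization 2 with hm
  have hm2 : Odd m := Nat.not_even_iff_odd.1 fun h =>
    Nat.not_dvd_ordCompl Nat.prime_two (orderOf_pos g).ne' (even_iff_two_dvd.1 h)
  set h := g ^ m with hh
  have hhx : h * x * h⁻¹ = x⁻¹ := conj_pow_inv hg m hm2
  have hh2 : h ^ 2 ^ (orderOf g).factorization 2 = 1 := by
    rw [hh, ← pow_mul, hm, mul_comm, Nat.ordProj_mul_ordCompl_eq_self, pow_orderOf_eq_one]
  have hX : IsPGroup 2 ↥(Subgroup.zpowers x) := by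
    obtain ⟨j, -, hj⟩ := (Nat.dvd_prime_pow Nat.prime_two).1 (orderOf_dvd_of_pow_eq_one hx)
    exact IsPGroup.of_card (n := j) (by rw [Nat.card_zpowers, hj])
  have hY : IsPGroup 2 ↥(Subgroup.zpowers h) := by
    obtain ⟨j, -, hj⟩ := (Nat.dvd_prime_pow Nat.prime_two).1 (orderOf_dvd_of_pow_eq_one hh2)
    exact IsPGroup.of_card (n := j) (by rw [Nat.card_zpowers, hj])
  have hnorm : Subgroup.zpowers h ≤ Subgroup.normalizer (Subgroup.zpowers x : Set G) := by
    rw [Subgroup.zpowers_le, Subgroup.mem_normalizer_iff_map_conj_eq, MonoidHom.map_zpowers]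
    rw [show (↑(MulAut.conj h) : G →* G) x = h * x * h⁻¹ from rfl, hhx, Subgroup.zpowers_inv]
  obtain ⟨Q, hQ⟩ := (hY.to_sup_of_normal_right' hX hnorm).exists_le_sylow
  have hxh : h * x = x * h := comm_of_sylow hP
    (hQ (Subgroup.mem_sup_left (Subgroup.mem_zpowers h)))
    (hQ (Subgroup.mem_sup_right (Subgroup.mem_zpowers x)))
  rw [hxh, mul_inv_cancel_right] at hhx
  exact hx2 (by rw [pow_two]; nth_rw 1 [hhx]; exact inv_mul_cancel x)

/-- Transport along a homomorphism. -/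
theorem nonAb_of_hom [Finite G] (f : H →* G) {x g : H} {k : ℕ} (hx : x ^ 2 ^ k = 1)
    (hx2 : f (x ^ 2) ≠ 1) (hg : g * x * g⁻¹ = x⁻¹) : NonAb G :=
  nonAb_of_real (x := f x) (g := f g) (k := k) (by rw [← map_pow, hx, map_one])
    (by rwa [← map_pow]) (by rw [← map_inv, ← map_mul, ← map_mul, hg, map_inv])

/-- Transport along a homomorphism into a group, followed by passage to the central quotient:
`y` witnesses that the square is not central. -/
theorem nonAb_center_of_hom [Finite G] (f : H →* G) {x g : H} {k : ℕ} (hx : x ^ 2 ^ k = 1)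
    {y : G} (hy : f (x ^ 2) * y ≠ y * f (x ^ 2)) (hg : g * x * g⁻¹ = x⁻¹) :
    NonAb (G ⧸ Subgroup.center G) :=
  nonAb_of_hom ((QuotientGroup.mk' (Subgroup.center G)).comp f) hx
    (fun h => hy (Subgroup.mem_center_iff.1
      ((QuotientGroup.eq_one_iff _).1 h) y).symm) hg

/-- Two involutions whose product has a square which is an involution. -/
theorem nonAb_of_pair [Finite G] {u v : G} (hu : u * u = 1) (hv : v * v = 1)
    (h4 : (u * v) ^ 4 = 1) (h2 : (u * v) ^ 2 ≠ 1) : NonAb G := by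
  refine nonAb_of_real (k := 2) h4 h2 (g := u) ?_
  rw [mul_inv_rev, ← mul_assoc u u v, hu, one_mul, inv_eq_of_mul_eq_one_right hu,
    inv_eq_of_mul_eq_one_right hv]

/-- A 2-subgroup with two non-commuting elements. -/
theorem nonAb_of_le [Finite G] {U : Subgroup G} (hU : IsPGroup 2 ↥U) {u v : G} (hu : u ∈ U)
    (hv : v ∈ U) (h : u * v ≠ v * u) : NonAb G := by
  intro P hP
  haveI : Fact (Nat.Prime 2) := ⟨Nat.prime_two⟩
  obtain ⟨Q, hQ⟩ := hU.exists_le_sylow
  exact h (comm_of_sylow hP (hQ hu) (hQ hv))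

theorem nonAb_of_equiv [Finite G] (e : G ≃* H) (h : NonAb H) : NonAb G := by
  haveI : Finite H := Finite.of_equiv _ e.toEquiv
  intro P hP
  refine h (P.mapSurjective (f := e.toMonoidHom) e.surjective) ⟨⟨fun a b => ?_⟩⟩
  obtain ⟨a', ha', ea⟩ := a.2
  obtain ⟨b', hb', eb⟩ := b.2
  apply Subtype.ext
  change (a : H) * b = b * a
  rw [← ea, ← eb, ← map_mul, ← map_mul]
  exact congrArg _ (congrArg Subtype.val (hP.is_comm.comm ⟨a', ha'⟩ ⟨b', hb'⟩))

end Cfsg.Agent.H56.CTwoAb
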